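import Mathlib
import Groth.Agent.Lib.Helper9.UnipLie.PLie

/-!
# Unipotent Hopf algebras: characterisation by products of functionals (helper9)

`A` is unipotent iff every `a : A` is killed by all sufficiently long convolution products of
functionals vanishing at `1` (the coradical filtration is exhaustive).
-/

set_option autoImplicit false

universe u v w w'

open TensorProduct WithConv

namespace Groth.Agent.H9.UnipFil

open Groth.Agent.H9 Groth.Agent.H9.UnipLie

section Defs

variable (k : Type u) [Field k] {A : Type v} [CommRing A] [Bialgebra k A]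

/-- `a` is killed by all products of `m` functionals (with values in `S`) vanishing at `1` -/
def KillsLen (S : Type w) [CommRing S] [Algebra k S] (m : ℕ) (a : A) : Prop :=
  ∀ l : List (WithConv (A →ₗ[k] S)), l.length = m → (∀ θ ∈ l, θ.ofConv 1 = 0) → l.prod.ofConv a = 0

/-- `a` is killed by all products of at least `n` functionals vanishing at `1` -/
def Kills (n : ℕ) (a : A) : Prop := ∀ m, n ≤ m → KillsLen k k m a

variable {k}

lemma Kills.mono {n n' : ℕ} {a : A} (h : Kills k n a) (hn : n ≤ n') : Kills k n' a :=
  fun m hm => h m (le_trans hn hm)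

end Defs

section Act

variable {k : Type u} [Field k] {A : Type v} [CommRing A] [Bialgebra k A]
  {V : Type w} [AddCommGroup V] [Module k V] [HopfRep.Comod k A V]

/-- the action of a product of functionals on a comodule -/
lemma slice_prod_cons (θ : WithConv (A →ₗ[k] k)) (l : List (WithConv (A →ₗ[k] k))) (v : V) :
    Comod.slice (θ :: l).prod.ofConv (Comod.coact (A := A) v) =
      Comod.slice θ.ofConv (Comod.coact (A := A) (Comod.slice l.prod.ofConv (Comod.coact (A := A) v))) := by
  rw [List.prod_cons, slice_mul_coact]

lemma slice_prod_concat (θ : WithConv (A →ₗ[k] k)) (l : List (WithConv (A →ₗ[k] k))) (v : V) :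
    Comod.slice (l ++ [θ]).prod.ofConv (Comod.coact (A := A) v) =
      Comod.slice l.prod.ofConv (Comod.coact (A := A) (Comod.slice θ.ofConv (Comod.coact (A := A) v))) := by
  rw [List.prod_append, List.prod_singleton, slice_mul_coact]

lemma slice_one_coact (v : V) :
    Comod.slice (1 : WithConv (A →ₗ[k] k)).ofConv (Comod.coact (A := A) v) = v := by
  have h := Comod.slice_counit_coact (k := k) (A := A) v
  have h1 : (1 : WithConv (A →ₗ[k] k)).ofConv = CoalgebraStruct.counit (R := k) (A := A) := by
    apply LinearMap.ext; intro a; rfl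
  rw [h1]
  exact h

/-- values of functionals via the regular comodule -/
lemma apply_eq_counit_slice (ψ : A →ₗ[k] k) (a : A) :
    ψ a = CoalgebraStruct.counit (R := k)
      (Comod.slice ψ (CoalgebraStruct.comul (R := k) a)) := by
  have h4 : ∀ (t : A ⊗[k] A),
      CoalgebraStruct.counit (R := k) (Comod.slice ψ t) =
        ψ (TensorProduct.lid k A ((CoalgebraStruct.counit (R := k) (A := A)).rTensor A t)) := by
    intro t
    induction t using TensorProduct.induction_on with
    | zero => simp
    | tmul b c => simp [mul_comm]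
    | add x y hx hy => simp only [map_add, hx, hy]
  rw [h4, Coalgebra.rTensor_counit_comul, TensorProduct.lid_tmul, one_smul]

end Act

section Forward

variable {k : Type u} [Field k] {A : Type v} [CommRing A] [Bialgebra k A]

/-- on a finite-dimensional comodule of a unipotent group, long products of functionals
vanishing at `1` act as zero -/
theorem slice_prod_eq_zero (hU : HopfRep.IsUnipotent k A) (W : Type v) [AddCommGroup W] [Module k W]
    [c : HopfRep.Comod k A W] [Module.Finite k W] (l : List (WithConv (A →ₗ[k] k)))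
    (hl : ∀ θ ∈ l, θ.ofConv 1 = 0) (hn : Module.finrank k W ≤ l.length) (w : W) :
    Comod.slice l.prod.ofConv (c.coact w) = 0 := by
  obtain ⟨F, hmono, -, hrank, htop, hstep⟩ := Comod.exists_flag_of_isUnipotent (c := c) hU W
  have h0 : F 0 = ⊥ := Submodule.finrank_eq_zero.mp (hrank 0 (Nat.zero_le _))
  have hstep' : ∀ (θ : WithConv (A →ₗ[k] k)), θ.ofConv 1 = 0 → ∀ i, ∀ w ∈ F i,
      Comod.slice θ.ofConv (c.coact w) ∈ F (i - 1) := by
    intro θ hθ i w hw
    rcases i with _ | i
    · rw [h0, Submodule.mem_bot] at hw
      rw [hw, map_zero, map_zero]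
      exact zero_mem _
    · have h1 : Comod.slice θ.ofConv (c.coact w) =
          Comod.slice θ.ofConv (c.coact w - w ⊗ₜ[k] (1 : A)) := by
        rw [map_sub, Comod.slice_tmul, hθ, zero_smul, sub_zero]
      rw [h1]
      exact Comod.slice_mem_of_mem_range _ (hstep i w hw) _
  have key : ∀ l : List (WithConv (A →ₗ[k] k)), (∀ θ ∈ l, θ.ofConv 1 = 0) → ∀ i, ∀ w ∈ F i,
      Comod.slice l.prod.ofConv (c.coact w) ∈ F (i - l.length) := by
    intro l
    induction l with
    | nil =>
      intro _ i w hw
      rw [List.prod_nil, List.length_nil, Nat.sub_zero]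
      have := slice_one_coact (k := k) (A := A) w
      rw [show Comod.coact (A := A) w = c.coact w from rfl] at this
      rw [this]
      exact hw
    | cons θ l ih =>
      intro hl i w hw
      have h1 := slice_prod_cons θ l w
      rw [show Comod.coact (A := A) w = c.coact w from rfl] at h1
      rw [h1, List.length_cons]
      have h2 := ih (fun θ' hθ' => hl θ' (List.mem_cons_of_mem _ hθ')) i w hw
      have h3 := hstep' θ (hl θ List.mem_cons_self) _ _ h2
      rw [Nat.sub_sub] at h3
      exact h3
  have h1 := key l hl (Module.finrank k W) w (by rw [htop _ le_rfl]; trivial)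
  rw [Nat.sub_eq_zero_of_le hn, h0, Submodule.mem_bot] at h1
  exact h1

/-- in a unipotent Hopf algebra every element is killed by long products -/
theorem exists_kills (hU : HopfRep.IsUnipotent k A) (a : A) : ∃ n : ℕ, Kills k n a := by
  let cA : HopfRep.Comod k A A := HopfRep.Comod.regular k A
  obtain ⟨W, hfin, hv, hW⟩ := Comod.exists_finite_subcomod_mem (k := k) (A := A) (V := A) a
  refine ⟨Module.finrank k W, fun m hm l hlen hl => ?_⟩
  let cW : HopfRep.Comod k A W := ComodSub.Comod.restr cA W hW
  have h1 := slice_prod_eq_zero hU W l hl (by rw [hlen]; exact hm) ⟨a, hv⟩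
  have h2 : Comod.slice l.prod.ofConv (cA.coact a) = 0 := by
    have h3 := ComodSub.restr_coact_coe cA W hW ⟨a, hv⟩
    rw [show ((⟨a, hv⟩ : W) : A) = a from rfl] at h3
    rw [← h3, Comod.slice_rTensor, h1, map_zero]
  rw [apply_eq_counit_slice]
  have : cA.coact a = CoalgebraStruct.comul (R := k) a := rfl
  rw [← this, h2, map_zero]

end Forward

section SliceAux

variable {k : Type u} [Field k] {A : Type v} [AddCommGroup A] [Module k A]

lemma eq_of_slice_eq' {V : Type w} [AddCommGroup V] [Module k V] (x y : V ⊗[k] A)
    (h : ∀ φ : A →ₗ[k] k, Comod.slice φ x = Comod.slice φ y) : x = y := by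
  rw [← sub_eq_zero]
  apply Comod.eq_zero_of_slice_eq_zero
  intro φ
  rw [map_sub, h φ, sub_self]

end SliceAux

section Backward

variable {k : Type u} [Field k] {A : Type v} [CommRing A] [Bialgebra k A]

omit [Bialgebra k A] in
lemma exists_kills_slice [Bialgebra k A] (h : ∀ a : A, ∃ n : ℕ, Kills k n a) {V : Type w} [AddCommGroup V]
    [Module k V] (t : V ⊗[k] A) :
    ∃ n : ℕ, ∀ l : List (WithConv (A →ₗ[k] k)), n ≤ l.length → (∀ θ ∈ l, θ.ofConv 1 = 0) →
      Comod.slice l.prod.ofConv t = 0 := by
  induction t using TensorProduct.induction_on with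
  | zero => exact ⟨0, fun l _ _ => by simp⟩
  | tmul v a =>
    obtain ⟨n, hn⟩ := h a
    refine ⟨n, fun l hl hl1 => ?_⟩
    rw [Comod.slice_tmul, hn l.length hl l rfl hl1, zero_smul]
  | add s t hs ht =>
    obtain ⟨n1, h1⟩ := hs
    obtain ⟨n2, h2⟩ := ht
    refine ⟨max n1 n2, fun l hl hl1 => ?_⟩
    rw [map_add, h1 l (le_trans (le_max_left _ _) hl) hl1, h2 l (le_trans (le_max_right _ _) hl) hl1,
      add_zero]

/-- if every element is killed by long products, the Hopf algebra is unipotent -/
theorem isUnipotent_of_kills (h : ∀ a : A, ∃ n : ℕ, Kills k n a) : HopfRep.IsUnipotent k A := by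
  intro V _ _ c hfin hnt
  have Q : ∀ n : ℕ, ∀ v : V, v ≠ 0 →
      (∀ l : List (WithConv (A →ₗ[k] k)), n ≤ l.length → (∀ θ ∈ l, θ.ofConv 1 = 0) →
        Comod.slice l.prod.ofConv (c.coact v) = 0) →
      ∃ w : V, w ≠ 0 ∧ ∀ θ : WithConv (A →ₗ[k] k), θ.ofConv 1 = 0 →
        Comod.slice θ.ofConv (c.coact w) = 0 := by
    intro n
    induction n with
    | zero =>
      intro v hv hl
      exfalso
      have h1 := hl [] (Nat.zero_le _) (fun θ hθ => absurd hθ List.not_mem_nil)
      rw [List.prod_nil] at h1
      have h2 := slice_one_coact (k := k) (A := A) v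
      rw [show Comod.coact (A := A) v = c.coact v from rfl, h1] at h2
      exact hv h2.symm
    | succ n ih =>
      intro v hv hl
      by_cases hcase : ∀ θ : WithConv (A →ₗ[k] k), θ.ofConv 1 = 0 →
          Comod.slice θ.ofConv (c.coact v) = 0
      · exact ⟨v, hv, hcase⟩
      · push Not at hcase
        obtain ⟨θ, hθ, hne⟩ := hcase
        apply ih (Comod.slice θ.ofConv (c.coact v)) hne
        intro l hlen hl1
        have h1 := slice_prod_concat θ l v
        rw [show Comod.coact (A := A) v = c.coact v from rfl] at h1
        have h1' : Comod.coact (A := A) (Comod.slice θ.ofConv (c.coact v)) =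
          c.coact (Comod.slice θ.ofConv (c.coact v)) := rfl
        rw [h1'] at h1
        rw [← h1]
        apply hl
        · rw [List.length_append, List.length_singleton]; omega
        · intro θ' hθ'
          rcases List.mem_append.mp hθ' with h2 | h2
          · exact hl1 θ' h2
          · rw [List.mem_singleton] at h2
            rw [h2]; exact hθ
  obtain ⟨v, hv⟩ := exists_ne (0 : V)
  obtain ⟨n, hn⟩ := exists_kills_slice h (c.coact v)
  obtain ⟨w, hw, hfix⟩ := Q n v hv hn
  intro hbot
  have hmem : w ∈ HopfRep.fixedPts k A V := by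
    show c.coact w = w ⊗ₜ[k] (1 : A)
    apply eq_of_slice_eq'
    intro φ
    rw [Comod.slice_tmul]
    set θ : WithConv (A →ₗ[k] k) := toConv (φ - φ 1 • CoalgebraStruct.counit (R := k) (A := A))
      with hθdef
    have hθ1 : θ.ofConv 1 = 0 := by
      show φ 1 - φ 1 • CoalgebraStruct.counit (R := k) (A := A) 1 = 0
      rw [Bialgebra.counit_one, smul_eq_mul, mul_one, sub_self]
    have h1 := hfix θ hθ1
    rw [hθdef, ofConv_toConv] at h1
    have h2 : Comod.slice (φ - φ 1 • CoalgebraStruct.counit (R := k) (A := A)) (c.coact w) =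
        Comod.slice φ (c.coact w) - φ 1 • w := by
      have h3 := Comod.slice_counit_coact (k := k) (A := A) w
      rw [show Comod.coact (A := A) w = c.coact w from rfl] at h3
      have h4 : ∀ t : V ⊗[k] A, Comod.slice (φ - φ 1 • CoalgebraStruct.counit (R := k) (A := A)) t =
          Comod.slice φ t - φ 1 • Comod.slice (CoalgebraStruct.counit (R := k) (A := A)) t := by
        intro t
        induction t using TensorProduct.induction_on with
        | zero => simp
        | tmul x b => simp [sub_smul, mul_smul]
        | add x y hx hy => simp only [map_add, hx, hy, smul_add]; abel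
      rw [h4, h3]
    rw [h2, sub_eq_zero] at h1
    exact h1
  rw [hbot, Submodule.mem_bot] at hmem
  exact hw hmem

/-- characterisation of unipotent Hopf algebras -/
theorem isUnipotent_iff_kills : HopfRep.IsUnipotent k A ↔ ∀ a : A, ∃ n : ℕ, Kills k n a :=
  ⟨fun hU a => exists_kills hU a, isUnipotent_of_kills⟩

end Backward

end Groth.Agent.H9.UnipFil
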