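import Mathlib
import Groth.Agent.Lib.Helper9.UnipFil.Basic

/-!
# Unipotent Hopf algebras: functionals with values in an algebra, base change (helper9)
-/

set_option autoImplicit false

universe u v w w'

open TensorProduct WithConv

namespace Groth.Agent.H9.UnipFil

open Groth.Agent.H9 Groth.Agent.H9.UnipLie

section KL

variable {k : Type u} [Field k] {A : Type v} [CommRing A] [Bialgebra k A]

/-- the subspace of elements killed by all products of `m` functionals vanishing at `1` -/
def filSub (k : Type u) [Field k] (A : Type v) [CommRing A] [Bialgebra k A] (m : ℕ) :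
    Submodule k A where
  carrier := {a | KillsLen k k m a}
  add_mem' := by
    intro a b ha hb l hl hl1
    rw [map_add, ha l hl hl1, hb l hl hl1, add_zero]
  zero_mem' := by
    intro l _ _
    rw [map_zero]
  smul_mem' := by
    intro c a ha l hl hl1
    rw [map_smul, ha l hl hl1, smul_zero]

lemma mem_filSub {m : ℕ} {a : A} : a ∈ filSub k A m ↔ KillsLen k k m a := Iff.rfl

lemma slice_comul_mem_filSub {m : ℕ} {a : A} (ha : KillsLen k k (m + 1) a) (φ : A →ₗ[k] k)
    (hφ : φ 1 = 0) : Comod.slice φ (CoalgebraStruct.comul (R := k) a) ∈ filSub k A m := by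
  intro l hl hl1
  let cA : HopfRep.Comod k A A := HopfRep.Comod.regular k A
  rw [apply_eq_counit_slice]
  have h1 := slice_prod_concat (V := A) (toConv φ) l a
  have h2 : Comod.coact (A := A) a = CoalgebraStruct.comul (R := k) a := rfl
  have h3 : ∀ b : A, Comod.coact (A := A) b = CoalgebraStruct.comul (R := k) b := fun b => rfl
  rw [h2, h3, ofConv_toConv] at h1
  rw [← h1, ← apply_eq_counit_slice]
  apply ha
  · rw [List.length_append, List.length_singleton, hl]
  · intro θ hθ
    rcases List.mem_append.mp hθ with h4 | h4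
    · exact hl1 θ h4
    · rw [List.mem_singleton] at h4
      rw [h4]; exact hφ

/-- key lemma: elements killed by products of `k`-valued functionals are killed by products of
`S`-valued ones -/
theorem killsLen_of_killsLen (S : Type w) [CommRing S] [Algebra k S] :
    ∀ (m : ℕ) (a : A), KillsLen k k m a → KillsLen k S m a := by
  intro m
  induction m with
  | zero =>
    intro a ha l hl _
    rw [List.length_eq_zero_iff] at hl
    subst hl
    have h1 := ha [] rfl (fun θ hθ => absurd hθ List.not_mem_nil)
    rw [List.prod_nil] at h1 ⊢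
    show algebraMap k S (CoalgebraStruct.counit (R := k) a) = 0
    have h2 : CoalgebraStruct.counit (R := k) a = 0 := h1
    rw [h2, map_zero]
  | succ m ih =>
    intro a ha l hl hl1
    have hne : l ≠ [] := by
      intro h; rw [h] at hl; simp at hl
    obtain ⟨l', θ, rfl⟩ : ∃ l' θ, l = l' ++ [θ] :=
      ⟨l.dropLast, l.getLast hne, (List.dropLast_append_getLast hne).symm⟩
    rw [List.length_append, List.length_singleton, Nat.add_right_cancel_iff] at hl
    have hθ : θ.ofConv 1 = 0 := hl1 θ (by simp)
    have hl1' : ∀ θ' ∈ l', θ'.ofConv 1 = 0 := fun θ' h => hl1 θ' (by simp [h])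
    rw [List.prod_append, List.prod_singleton]
    set t : A ⊗[k] S := θ.ofConv.lTensor A (CoalgebraStruct.comul (R := k) a) with ht
    have hmem : t ∈ LinearMap.range ((filSub k A m).subtype.rTensor S) := by
      rw [Comod.mem_range_rTensor_iff_slice]
      intro σ
      rw [ht, Comod.slice_lTensor]
      apply slice_comul_mem_filSub ha
      rw [LinearMap.comp_apply, hθ, map_zero]
    have h1 : (l'.prod * θ).ofConv a = LinearMap.mul' k S (l'.prod.ofConv.rTensor S t) := by
      rw [LinearMap.convMul_def, ofConv_toConv, LinearMap.comp_apply, LinearMap.comp_apply, ht,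
        ← LinearMap.comp_apply (LinearMap.rTensor S _), LinearMap.rTensor_comp_lTensor]
    rw [h1]
    obtain ⟨y, hy⟩ := hmem
    rw [← hy, ← LinearMap.comp_apply (LinearMap.rTensor S _), ← LinearMap.rTensor_comp]
    have h2 : l'.prod.ofConv ∘ₗ (filSub k A m).subtype = 0 := by
      apply LinearMap.ext; intro b
      exact ih b b.2 l' hl hl1'
    rw [h2, LinearMap.rTensor_zero, LinearMap.zero_apply, map_zero]

end KL

section Res

variable {k : Type u} [Field k] {K : Type w} [Field K] [Algebra k K] {A : Type v} [CommRing A]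
  [Bialgebra k A]

/-- restriction of a `K`-functional on `K ⊗ A` to `A` -/
noncomputable def res (Ψ : WithConv ((K ⊗[k] A) →ₗ[K] K)) : WithConv (A →ₗ[k] K) :=
  toConv ((Ψ.ofConv.restrictScalars k) ∘ₗ (TensorProduct.mk k K A 1))

lemma res_apply (Ψ : WithConv ((K ⊗[k] A) →ₗ[K] K)) (a : A) :
    (res Ψ).ofConv a = Ψ.ofConv ((1 : K) ⊗ₜ[k] a) := rfl

lemma apply_tmul (Ψ : WithConv ((K ⊗[k] A) →ₗ[K] K)) (c : K) (a : A) :
    Ψ.ofConv (c ⊗ₜ[k] a) = c * (res Ψ).ofConv a := by
  rw [res_apply]
  have : c ⊗ₜ[k] a = c • ((1 : K) ⊗ₜ[k] a) := by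
    rw [TensorProduct.smul_tmul', smul_eq_mul, mul_one]
  rw [this, map_smul, smul_eq_mul]

lemma res_one : res (1 : WithConv ((K ⊗[k] A) →ₗ[K] K)) = 1 := by
  apply WithConv.ofConv_injective
  apply LinearMap.ext; intro a
  rw [res_apply]
  show algebraMap K K (CoalgebraStruct.counit (R := K) ((1 : K) ⊗ₜ[k] a)) =
    algebraMap k K (CoalgebraStruct.counit (R := k) a)
  rw [TensorProduct.counit_tmul]
  simp only [Algebra.algebraMap_self, RingHom.id_apply, CommSemiring.counit_apply]
  exact (Algebra.algebraMap_eq_smul_one _).symm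

lemma res_mul (Ψ Ψ' : WithConv ((K ⊗[k] A) →ₗ[K] K)) : res (Ψ * Ψ') = res Ψ * res Ψ' := by
  apply WithConv.ofConv_injective
  apply LinearMap.ext; intro a
  rw [res_apply]
  show (Ψ * Ψ') ((1 : K) ⊗ₜ[k] a) = (res Ψ * res Ψ') a
  rw [(Coalgebra.Repr.arbitrary k a).convMul_apply, LinearMap.convMul_apply,
    TensorProduct.comul_tmul, ← (Coalgebra.Repr.arbitrary k a).eq, CommSemiring.comul_apply,
    TensorProduct.tmul_sum, map_sum, map_sum, map_sum]
  refine Finset.sum_congr rfl fun l _ => ?_
  rw [TensorProduct.AlgebraTensorModule.tensorTensorTensorComm_tmul, TensorProduct.map_tmul,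
    LinearMap.mul'_apply]
  rfl

lemma res_prod (l : List (WithConv ((K ⊗[k] A) →ₗ[K] K))) : res l.prod = (l.map res).prod := by
  induction l with
  | nil => rw [List.prod_nil, List.map_nil, List.prod_nil, res_one]
  | cons Ψ l ih => rw [List.prod_cons, List.map_cons, List.prod_cons, res_mul, ih]

/-- unipotence is preserved by extension of the base field -/
theorem isUnipotent_baseChange (hU : HopfRep.IsUnipotent k A) :
    HopfRep.IsUnipotent K (K ⊗[k] A) := by
  apply isUnipotent_of_kills
  intro h
  induction h using TensorProduct.induction_on with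
  | zero => exact ⟨0, fun m _ l _ _ => map_zero _⟩
  | tmul c a =>
    obtain ⟨n, hn⟩ := exists_kills hU a
    refine ⟨n, fun m hm l hl hl1 => ?_⟩
    rw [apply_tmul, res_prod]
    have h1 := killsLen_of_killsLen K m a (hn m hm) (l.map res) (by rw [List.length_map, hl])
      (by
        intro θ hθ
        obtain ⟨Ψ, hΨ, rfl⟩ := List.mem_map.mp hθ
        rw [res_apply]
        have := hl1 Ψ hΨ
        rwa [Algebra.TensorProduct.one_def] at this)
    rw [h1, mul_zero]
  | add x y hx hy =>
    obtain ⟨n1, h1⟩ := hx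
    obtain ⟨n2, h2⟩ := hy
    refine ⟨max n1 n2, fun m hm l hl hl1 => ?_⟩
    rw [map_add, h1 m (le_trans (le_max_left _ _) hm) l hl hl1,
      h2 m (le_trans (le_max_right _ _) hm) l hl hl1, add_zero]

/-- the `K`-linear extension of a functional -/
noncomputable def extK (φ : WithConv (A →ₗ[k] k)) : WithConv ((K ⊗[k] A) →ₗ[K] K) :=
  toConv ((TensorProduct.AlgebraTensorModule.rid k K K).toLinearMap ∘ₗ
    LinearMap.baseChange K φ.ofConv)

lemma extK_tmul (φ : WithConv (A →ₗ[k] k)) (c : K) (a : A) :
    (extK (K := K) φ).ofConv (c ⊗ₜ[k] a) = φ.ofConv a • c := by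
  simp [extK]

/-- post-composition with `k → K` -/
noncomputable def postK (φ : WithConv (A →ₗ[k] k)) : WithConv (A →ₗ[k] K) :=
  toConv ((Algebra.ofId k K).toLinearMap ∘ₗ φ.ofConv)

lemma postK_apply (φ : WithConv (A →ₗ[k] k)) (a : A) :
    (postK (K := K) φ).ofConv a = algebraMap k K (φ.ofConv a) := rfl

lemma res_extK (φ : WithConv (A →ₗ[k] k)) : res (extK (K := K) φ) = postK φ := by
  apply WithConv.ofConv_injective
  apply LinearMap.ext; intro a
  rw [res_apply, extK_tmul, postK_apply, Algebra.algebraMap_eq_smul_one]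

lemma postK_mul (φ φ' : WithConv (A →ₗ[k] k)) :
    postK (K := K) (φ * φ') = postK φ * postK φ' := by
  apply WithConv.ofConv_injective
  exact LinearMap.algHom_comp_convMul_distrib (Algebra.ofId k K) φ φ'

lemma postK_one : postK (K := K) (1 : WithConv (A →ₗ[k] k)) = 1 := by
  apply WithConv.ofConv_injective
  apply LinearMap.ext; intro a
  rfl

lemma postK_prod (l : List (WithConv (A →ₗ[k] k))) :
    postK (K := K) l.prod = (l.map postK).prod := by
  induction l with
  | nil => rw [List.prod_nil, List.map_nil, List.prod_nil, postK_one]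
  | cons φ l ih => rw [List.prod_cons, List.map_cons, List.prod_cons, postK_mul, ih]

/-- unipotence descends along extension of the base field -/
theorem isUnipotent_of_baseChange (hU : HopfRep.IsUnipotent K (K ⊗[k] A)) :
    HopfRep.IsUnipotent k A := by
  apply isUnipotent_of_kills
  intro a
  obtain ⟨n, hn⟩ := exists_kills hU ((1 : K) ⊗ₜ[k] a)
  refine ⟨n, fun m hm l hl hl1 => ?_⟩
  have h1 := hn m hm (l.map (extK (K := K))) (by rw [List.length_map, hl]) (by
    intro θ hθ
    obtain ⟨φ, hφ, rfl⟩ := List.mem_map.mp hθ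
    rw [Algebra.TensorProduct.one_def, extK_tmul, hl1 φ hφ, zero_smul])
  rw [apply_tmul, one_mul, res_prod, List.map_map] at h1
  have h2 : (res (K := K) ∘ extK (K := K)) = (postK (K := K) : WithConv (A →ₗ[k] k) → _) := by
    funext φ
    exact res_extK φ
  rw [h2, ← postK_prod, postK_apply] at h1
  exact (algebraMap k K).injective (by rw [h1, map_zero])

end Res

end Groth.Agent.H9.UnipFil
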