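import Mathlib
import Groth.Agent.Lib.Helper9.UnipFil.BaseChange
import Groth.Prelude.Def_SGA3t2b

/-!
# No nontrivial homomorphisms between groups of multiplicative type and unipotent groups (helper9)
-/

set_option autoImplicit false

universe u v w w'

open TensorProduct WithConv

namespace Groth.Agent.H9.UnipFil

open Groth.Agent.H9 Groth.Agent.H9.UnipLie

section GroupLike

variable {K : Type u} [Field K] {H : Type v} [CommRing H] [Bialgebra K H]

/-- products of functionals on a group-like element -/
lemma prod_apply_groupLike {g : H} (hg : IsGroupLikeElem K g) (l : List (WithConv (H →ₗ[K] K))) :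
    l.prod.ofConv g = (l.map fun Ψ => Ψ.ofConv g).prod := by
  induction l with
  | nil =>
    rw [List.prod_nil, List.map_nil, List.prod_nil]
    show algebraMap K K (CoalgebraStruct.counit (R := K) g) = 1
    rw [hg.counit_eq_one, map_one]
  | cons Ψ l ih =>
    rw [List.prod_cons, List.map_cons, List.prod_cons, ← ih]
    show (Ψ * l.prod) g = _
    rw [LinearMap.convMul_apply, hg.comul_eq_tmul_self, TensorProduct.map_tmul,
      LinearMap.mul'_apply]

/-- in a unipotent Hopf algebra the only group-like element is `1` -/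
theorem groupLike_eq_one (hU : HopfRep.IsUnipotent K H) {g : H} (hg : IsGroupLikeElem K g) :
    g = 1 := by
  obtain ⟨n, hn⟩ := exists_kills hU g
  have h1 : ∀ Ψ : H →ₗ[K] K, Ψ 1 = 0 → Ψ g = 0 := by
    intro Ψ hΨ
    have h2 := hn (n + 1) (Nat.le_succ _) (List.replicate (n + 1) (toConv Ψ))
      (List.length_replicate) (by
        intro θ hθ
        rw [List.eq_of_mem_replicate hθ]
        exact hΨ)
    rw [prod_apply_groupLike hg, List.map_replicate, List.prod_replicate, ofConv_toConv] at h2
    exact pow_eq_zero_iff (Nat.succ_ne_zero n) |>.mp h2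
  rw [← sub_eq_zero, ← Module.forall_dual_apply_eq_zero_iff K]
  intro Φ
  have h3 := h1 (Φ - Φ 1 • CoalgebraStruct.counit (R := K) (A := H)) (by
    rw [LinearMap.sub_apply, LinearMap.smul_apply, Bialgebra.counit_one, smul_eq_mul, mul_one,
      sub_self])
  rw [LinearMap.sub_apply, LinearMap.smul_apply, hg.counit_eq_one, smul_eq_mul, mul_one] at h3
  rw [map_sub]
  exact h3

end GroupLike

section Diag

variable {K : Type u} [Field K] {M : Type v} [CommRing M] [Bialgebra K M]

/-- coordinate functional at a group-like element of a diagonalizable bialgebra -/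
theorem exists_coord (hM : HopfRep.IsDiagonalizable K M) (χ : M) (hχ : IsGroupLikeElem K χ) :
    ∃ p : M →ₗ[K] K, p χ = 1 ∧ (∀ γ : M, IsGroupLikeElem K γ → γ ≠ χ → p γ = 0) := by
  classical
  have hli : LinearIndependent K (fun g : {a : M | IsGroupLikeElem K a} => (g : M)) :=
    linearIndepOn_isGroupLikeElem
  have hsp : ⊤ ≤ Submodule.span K (Set.range fun g : {a : M | IsGroupLikeElem K a} => (g : M)) := by
    rw [Subtype.range_coe_subtype]
    exact le_of_eq hM.symm
  let b := Module.Basis.mk hli hsp
  have hb : ∀ g : {a : M | IsGroupLikeElem K a}, b g = (g : M) := fun g => by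
    rw [Module.Basis.mk_apply]
  refine ⟨b.coord ⟨χ, hχ⟩, ?_, ?_⟩
  · have h1 : b.coord ⟨χ, hχ⟩ (b ⟨χ, hχ⟩) = 1 := by
      rw [Module.Basis.coord_apply, Module.Basis.repr_self, Finsupp.single_eq_same]
    rwa [hb] at h1
  · intro γ hγ hne
    have h1 : b.coord ⟨χ, hχ⟩ (b ⟨γ, hγ⟩) = 0 := by
      rw [Module.Basis.coord_apply, Module.Basis.repr_self, Finsupp.single_eq_of_ne]
      intro h
      exact hne (congrArg Subtype.val h).symm
    rwa [hb] at h1

/-- the coordinate functional is idempotent for convolution -/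
lemma coord_idem (hM : HopfRep.IsDiagonalizable K M) (p : M →ₗ[K] K)
    (hp : ∀ γ : M, IsGroupLikeElem K γ → p γ = 0 ∨ p γ = 1) :
    (toConv p * toConv p : WithConv (M →ₗ[K] K)) = toConv p := by
  apply WithConv.ofConv_injective
  apply LinearMap.ext_on_range (v := fun g : {a : M | IsGroupLikeElem K a} => (g : M))
  · rw [Subtype.range_coe_subtype]
    exact hM
  · rintro ⟨γ, hγ⟩
    show (toConv p * toConv p : WithConv (M →ₗ[K] K)) γ = p γ
    rw [LinearMap.convMul_apply, (show IsGroupLikeElem K γ from hγ).comul_eq_tmul_self,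
      TensorProduct.map_tmul, LinearMap.mul'_apply]
    show p γ * p γ = p γ
    rcases hp γ hγ with h | h <;> rw [h] <;> simp

/-- an element all of whose nontrivial coordinates vanish is a scalar -/
lemma eq_smul_one_of_coord (hM : HopfRep.IsDiagonalizable K M) (m : M)
    (h : ∀ p : M →ₗ[K] K, p 1 = 0 → (∀ γ : M, IsGroupLikeElem K γ → p γ = 0 ∨ p γ = 1) → p m = 0) :
    m = CoalgebraStruct.counit (R := K) m • (1 : M) := by
  classical
  have hli : LinearIndependent K (fun g : {a : M | IsGroupLikeElem K a} => (g : M)) :=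
    linearIndepOn_isGroupLikeElem
  have hsp : ⊤ ≤ Submodule.span K (Set.range fun g : {a : M | IsGroupLikeElem K a} => (g : M)) := by
    rw [Subtype.range_coe_subtype]
    exact le_of_eq hM.symm
  let b := Module.Basis.mk hli hsp
  have hb : ∀ g : {a : M | IsGroupLikeElem K a}, b g = (g : M) := fun g => by
    rw [Module.Basis.mk_apply]
  have h1gl : IsGroupLikeElem K (1 : M) := ⟨Bialgebra.counit_one, by
    rw [Bialgebra.comul_one, Algebra.TensorProduct.one_def]⟩
  let one' : {a : M | IsGroupLikeElem K a} := ⟨1, h1gl⟩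
  have hcoord : ∀ g : {a : M | IsGroupLikeElem K a}, g ≠ one' → b.repr m g = 0 := by
    intro g hg
    have := h (b.coord g) (by
      have : (1 : M) = b one' := (hb one').symm
      rw [this, Module.Basis.coord_apply, Module.Basis.repr_self, Finsupp.single_eq_of_ne]
      exact hg) (by
      intro γ hγ
      have : (γ : M) = b ⟨γ, hγ⟩ := (hb ⟨γ, hγ⟩).symm
      rw [this, Module.Basis.coord_apply, Module.Basis.repr_self, Finsupp.single_apply]
      split_ifs <;> simp)
    exact this
  have hm : m = b.repr m one' • (1 : M) := by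
    conv_lhs => rw [← b.linearCombination_repr m, Finsupp.linearCombination_apply]
    rw [Finsupp.sum, Finset.sum_eq_single one']
    · rw [hb]
    · intro g _ hg
      rw [hcoord g hg, zero_smul]
    · intro hnot
      rw [Finsupp.notMem_support_iff.mp hnot, zero_smul]
  have hc := congrArg (CoalgebraStruct.counit (R := K)) hm
  rw [map_smul, Bialgebra.counit_one, smul_eq_mul, mul_one] at hc
  rw [hc]
  exact hm

end Diag

section Main

variable {k : Type u} [Field k] {K : Type w} [Field K] [Algebra k K]
  {AM : Type v} [CommRing AM] [Bialgebra k AM] {AU : Type v} [CommRing AU] [Bialgebra k AU]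

lemma includeRight_inj {k : Type u} [Field k] (K : Type w) [Field K] [Algebra k K]
    {B : Type v} [CommRing B] [Algebra k B] {a b : B}
    (h : (1 : K) ⊗ₜ[k] a = (1 : K) ⊗ₜ[k] b) : a = b :=
  Algebra.TensorProduct.includeRight_injective (R := k) (A := K) (B := B)
    (algebraMap k K).injective h

/-- a homomorphism from a group of multiplicative type to a unipotent group is trivial -/
theorem trivial_of_unipotent_to_diag (hM : HopfRep.IsDiagonalizable K (K ⊗[k] AM))
    (hU : HopfRep.IsUnipotent k AU) (φ : AU →ₐc[k] AM) (a : AU) :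
    φ a = algebraMap k AM (CoalgebraStruct.counit (R := k) a) := by
  have step1 : ∀ p : (K ⊗[k] AM) →ₗ[K] K, p 1 = 0 →
      (∀ γ : K ⊗[k] AM, IsGroupLikeElem K γ → p γ = 0 ∨ p γ = 1) →
      p ((1 : K) ⊗ₜ[k] φ a) = 0 := by
    intro p hp1 hp
    have hidem := coord_idem hM p hp
    set Θ : WithConv (AU →ₗ[k] K) :=
      toConv ((res (toConv p)).ofConv ∘ₗ (φ : AU →ₗc[k] AM).toLinearMap) with hΘ
    have hΘΘ : Θ * Θ = Θ := by
      apply WithConv.ofConv_injective
      have h1 := LinearMap.convMul_comp_coalgHom_distrib (res (toConv p)) (res (toConv p))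
        (φ : AU →ₗc[k] AM)
      rw [← res_mul, hidem] at h1
      exact h1.symm
    have hΘ1 : Θ.ofConv 1 = 0 := by
      show p ((1 : K) ⊗ₜ[k] φ 1) = 0
      rw [map_one, ← Algebra.TensorProduct.one_def]
      exact hp1
    obtain ⟨n, hn⟩ := exists_kills hU a
    have h2 := killsLen_of_killsLen K (n + 1) a (hn (n + 1) (Nat.le_succ _))
      (List.replicate (n + 1) Θ) List.length_replicate (by
        intro θ hθ
        rw [List.eq_of_mem_replicate hθ]
        exact hΘ1)
    rw [List.prod_replicate, IsIdempotentElem.pow_succ_eq n hΘΘ] at h2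
    exact h2
  have step2 := eq_smul_one_of_coord hM ((1 : K) ⊗ₜ[k] φ a) step1
  rw [TensorProduct.counit_tmul] at step2
  have hc : CoalgebraStruct.counit (R := k) (φ a) = CoalgebraStruct.counit (R := k) a :=
    CoalgHomClass.counit_comp_apply φ a
  rw [hc] at step2
  apply includeRight_inj (k := k) K
  rw [step2, CommSemiring.counit_apply, Algebra.algebraMap_eq_smul_one, TensorProduct.tmul_smul,
    smul_assoc, one_smul, Algebra.TensorProduct.one_def]

/-- a homomorphism from a unipotent group to a group of multiplicative type is trivial -/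
theorem trivial_of_diag_to_unipotent (hM : HopfRep.IsDiagonalizable K (K ⊗[k] AM))
    (hU : HopfRep.IsUnipotent k AU) (ψ : AM →ₐc[k] AU) (a : AM) :
    ψ a = algebraMap k AU (CoalgebraStruct.counit (R := k) a) := by
  have hU' : HopfRep.IsUnipotent K (K ⊗[k] AU) := isUnipotent_baseChange hU
  set ψ' : K ⊗[k] AM →ₐc[K] K ⊗[k] AU := Bialgebra.TensorProduct.map (BialgHom.id K K) ψ with hψ'
  have h1 : ∀ χ : K ⊗[k] AM, IsGroupLikeElem K χ → ψ' χ = 1 := fun χ hχ =>
    groupLike_eq_one hU' (hχ.map ψ')
  have h2 : ∀ m : K ⊗[k] AM, ψ' m = CoalgebraStruct.counit (R := K) m • (1 : K ⊗[k] AU) := by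
    intro m
    have hm : m ∈ Submodule.span K {a : K ⊗[k] AM | IsGroupLikeElem K a} := by
      rw [show Submodule.span K {a : K ⊗[k] AM | IsGroupLikeElem K a} = ⊤ from hM]; trivial
    induction hm using Submodule.span_induction with
    | mem χ hχ => rw [h1 χ hχ, (show IsGroupLikeElem K χ from hχ).counit_eq_one, one_smul]
    | zero => rw [map_zero, map_zero, zero_smul]
    | add x y _ _ hx hy => rw [map_add, map_add, hx, hy, add_smul]
    | smul c x _ hx => rw [map_smul, map_smul, hx, smul_assoc]
  have h3 := h2 ((1 : K) ⊗ₜ[k] a)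
  rw [hψ', Bialgebra.TensorProduct.map_tmul, TensorProduct.counit_tmul] at h3
  apply includeRight_inj (k := k) K
  rw [show (BialgHom.id K K) (1 : K) = 1 from rfl] at h3
  rw [h3, CommSemiring.counit_apply, Algebra.algebraMap_eq_smul_one, TensorProduct.tmul_smul,
    smul_assoc, one_smul, Algebra.TensorProduct.one_def]

end Main

end Groth.Agent.H9.UnipFil
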